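import Groth.Agent.EGA4Lib.SkFlat
import Groth.Agent.Depth.CM
import Groth.Agent.DomMod.HomDepth

/-!
Depth along `J` from depth of the fibre stalks.
-/

set_option autoImplicit false
set_option linter.style.haveILetI false
set_option maxHeartbeats 400000

universe u

open TensorProduct IsLocalRing

namespace Groth.Agent.QGorLib.FibDepth

variable {A B : Type u} [CommRing A] [CommRing B] [IsNoetherianRing A] [IsNoetherianRing B] [Algebra A B]

omit [IsNoetherianRing A] [IsNoetherianRing B] in
theorem idealDepth_fib (q : Ideal B) [q.IsPrime] (E : Type u) [AddCommGroup E] [Module B E] :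
    LocCoh.idealDepth (q.map (algebraMap B (EGA4.FibLocRing A B q))) (EGA4.FibLocMod A B q E) =
      LocCoh.depth (Localization.AtPrime q) (EGA4.FibLocMod A B q E) := by
  rw [IsScalarTower.algebraMap_eq B (Localization.AtPrime q) (EGA4.FibLocRing A B q), ← Ideal.map_map,
    Localization.AtPrime.map_eq_maximalIdeal]
  exact Depth.idealDepth_map_of_surjective Ideal.Quotient.mk_surjective _

theorem depth_fib_le (q : Ideal B) [q.IsPrime] (E : Type u) [AddCommGroup E] [Module B E] [Module A E]
    [IsScalarTower A B E] [Module.Finite B E] [Module.Flat A E] :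
    LocCoh.depth (Localization.AtPrime q) (EGA4.FibLocMod A B q E) ≤
      LocCoh.depth (Localization.AtPrime q) (LocalizedModule q.primeCompl E) := by
  have h := (EGA4Lib.depth_supportDim_stalk A q A E).1
  let eB : (E ⊗[A] A) ≃ₗ[B] E := AlgebraTensorModule.rid A B E
  let e : LocalizedModule q.primeCompl (E ⊗[A] A) ≃ₗ[Localization.AtPrime q]
      LocalizedModule q.primeCompl E :=
    LinearEquiv.ofLinearMap (LocalizedModule.map q.primeCompl eB.toLinearMap)
      (LocalizedModule.map q.primeCompl eB.symm.toLinearMap)
      (LinearMap.ext fun x => by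
        induction x using LocalizedModule.induction_on with
        | h m s => simp)
      (LinearMap.ext fun x => by
        induction x using LocalizedModule.induction_on with
        | h m s => simp)
  rw [(EGA4Lib.depth_supportDim_congr e).1] at h
  rw [h]
  exact le_add_self

theorem le_idealDepth (J : Ideal B) (E : Type u) [AddCommGroup E] [Module B E] [Module A E]
    [IsScalarTower A B E] [Module.Finite B E] [Module.Flat A E] (k : ℕ∞)
    (h : ∀ q : PrimeSpectrum B, J ≤ q.asIdeal → k ≤ LocCoh.idealDepth
      (q.asIdeal.map (algebraMap B (EGA4.FibLocRing A B q.asIdeal))) (EGA4.FibLocMod A B q.asIdeal E)) :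
    k ≤ LocCoh.idealDepth J E := by
  rw [Depth.idealDepth_eq_iInf_depth]
  refine le_iInf₂ fun q hq => ?_
  have h' := h q hq
  rw [idealDepth_fib] at h'
  exact h'.trans (depth_fib_le q.asIdeal E)

omit [IsNoetherianRing A] [IsNoetherianRing B] in
theorem idealDepth_fibLocMod_self (q : Ideal B) [q.IsPrime] (I : Ideal (EGA4.FibLocRing A B q)) :
    LocCoh.idealDepth I (EGA4.FibLocMod A B q B) = LocCoh.idealDepth I (EGA4.FibLocRing A B q) := by
  let e := (IsLocalizedModule.linearEquiv q.primeCompl (LocalizedModule.mkLinearMap q.primeCompl B)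
      (Algebra.linearMap B (Localization.AtPrime q))).extendScalarsOfIsLocalization q.primeCompl
        (Localization.AtPrime q)
  let e' : EGA4.FibLocMod A B q B ≃ₗ[Localization.AtPrime q] EGA4.FibLocRing A B q :=
    Submodule.Quotient.equiv _ _ e (by
      rw [Submodule.map_smul'', Submodule.map_top, LinearEquiv.range, Ideal.smul_eq_mul, Ideal.mul_top])
  exact Depth.idealDepth_congr (e'.extendScalarsOfSurjective Ideal.Quotient.mk_surjective)

theorem le_idealDepth_self [Module.Flat A B] (J : Ideal B) (k : ℕ∞)
    (h : ∀ q : PrimeSpectrum B, J ≤ q.asIdeal → k ≤ LocCoh.idealDepth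
      (q.asIdeal.map (algebraMap B (EGA4.FibLocRing A B q.asIdeal))) (EGA4.FibLocRing A B q.asIdeal)) :
    k ≤ LocCoh.idealDepth J B :=
  le_idealDepth (A := A) J B k fun q hq => (h q hq).trans_eq (idealDepth_fibLocMod_self _ _).symm

end Groth.Agent.QGorLib.FibDepth
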