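import Groth.Agent.QGorLib.FibInj
import Groth.Agent.FlatMor.FlatLemmas
import Groth.Agent.FlatMor.FlatAtBC

/-!
Four term exact sequences `0 → F → E⁰ → E¹ → G → 0` with `E⁰`, `E¹` flat over the base:
flatness of `G` and depth of the closed fibre of `F`.
-/

set_option autoImplicit false
set_option linter.style.haveILetI false
set_option maxHeartbeats 400000

universe u

open TensorProduct IsLocalRing

namespace Groth.Agent.QGorLib.FourTermFlat

variable {A B : Type u} [CommRing A] [CommRing B] [Algebra A B]

theorem two_le_of_exact [IsNoetherianRing B] {K P Q : Type u} [AddCommGroup K] [Module B K] [Module.Finite B K]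
    [AddCommGroup P] [Module B P] [Module.Finite B P] [AddCommGroup Q] [Module B Q] [Module.Finite B Q]
    {J : Ideal B} (f : K →ₗ[B] P) (g : P →ₗ[B] Q) (hf : Function.Injective f) (hfg : Function.Exact f g)
    (hP : 2 ≤ LocCoh.idealDepth J P) (hQ : 1 ≤ LocCoh.idealDepth J Q) : 2 ≤ LocCoh.idealDepth J K := by
  have hR : 1 ≤ LocCoh.idealDepth J (LinearMap.range g) :=
    DomMod.HomDepth.one_le_idealDepth_of_injective (LinearMap.range g).subtype (Submodule.injective_subtype _) hQ
  refine le_trans (le_min hP ?_) (Depth.min_le_idealDepth_X₁ hf g.surjective_rangeRestrict (f := f)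
    (LinearMap.exact_iff.mpr (by rw [LinearMap.ker_rangeRestrict]; exact LinearMap.exact_iff.mp hfg)))
  calc (2 : ℕ∞) = 1 + 1 := rfl
    _ ≤ _ := add_le_add hR le_rfl

variable {K P Q : Type u} [AddCommGroup K] [Module B K] [Module A K] [IsScalarTower A B K]
  [AddCommGroup P] [Module B P] [Module A P] [IsScalarTower A B P]
  [AddCommGroup Q] [Module B Q] [Module A Q] [IsScalarTower A B Q]
  {f : K →ₗ[B] P} {g : P →ₗ[B] Q}

/-- Tensoring a short exact sequence with flat cokernel stays left exact. -/
theorem rTensor_injective [Module.Flat A Q] (hf : Function.Injective f) (hfg : Function.Exact f g)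
    (hg : Function.Surjective g) (X : Type u) [AddCommGroup X] [Module A X] :
    Function.Injective (AlgebraTensorModule.rTensor A X f) := by
  have h := LinearMap.lTensor_injective_of_exact_of_flat (g.restrictScalars A) hg (f.restrictScalars A) hf hfg X
  rw [LinearMap.lTensor_inj_iff_rTensor_inj] at h
  exact h

omit [Module A K] [IsScalarTower A B K] in
theorem flat_of_flat_of_flat [Module A K] [IsScalarTower A B K] [Module.Flat A P] [Module.Flat A Q]
    (hf : Function.Injective f) (hfg : Function.Exact f g) (hg : Function.Surjective g) : Module.Flat A K := by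
  haveI := FlatMor.FlatLemmas.flat_ker (g.restrictScalars A) hg
  exact Module.Flat.of_linearEquiv ((LinearEquiv.ofInjective (f.restrictScalars A) hf).trans
    (LinearEquiv.ofEq _ _ (LinearMap.exact_iff.mp
      (show Function.Exact (f.restrictScalars A) (g.restrictScalars A) from hfg)).symm))

theorem flatAt_of_flatAt [Module.Flat A P] (hf : Function.Injective f) (hfg : Function.Exact f g)
    (hg : Function.Surjective g) (q : Ideal B) [q.IsPrime] (hQ : FlatCA.FlatAt A q Q) :
    FlatCA.FlatAt A q K := by
  haveI : Module.Flat A (LocalizedModule q.primeCompl Q) := hQ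
  haveI := FlatMor.FlatAtBC.flat_localizedModule A q.primeCompl P
  exact flat_of_flat_of_flat (f := (LocalizedModule.map q.primeCompl f).restrictScalars B)
    (g := (LocalizedModule.map q.primeCompl g).restrictScalars B) (LocalizedModule.map_injective _ f hf)
    (LocalizedModule.map_exact q.primeCompl f g hfg) (LocalizedModule.map_surjective _ g hg)

theorem rTensor_exact' (hfg : Function.Exact f g) (hg : Function.Surjective g) (X : Type u) [AddCommGroup X]
    [Module A X] :
    Function.Exact (AlgebraTensorModule.rTensor A X f) (AlgebraTensorModule.rTensor A X g) := by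
  have h1 : ⇑(AlgebraTensorModule.rTensor A X f) = ⇑((f.restrictScalars A).rTensor X) := funext fun z => by
    induction z using TensorProduct.induction_on with
    | zero => simp
    | tmul k x => simp
    | add a b ha hb => simp only [map_add, ha, hb]
  have h2 : ⇑(AlgebraTensorModule.rTensor A X g) = ⇑((g.restrictScalars A).rTensor X) := funext fun z => by
    induction z using TensorProduct.induction_on with
    | zero => simp
    | tmul k x => simp
    | add a b ha hb => simp only [map_add, ha, hb]
  rw [h1, h2]
  exact _root_.rTensor_exact (f := f.restrictScalars A) (g := g.restrictScalars A) X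
    (by simpa only [LinearMap.coe_restrictScalars] using hfg) (by simpa only [LinearMap.coe_restrictScalars] using hg)

/-- The kernel of `f ⊗ X` is `r`-power torsion when the cokernel is flat off `V(r)`. -/
theorem exists_pow_smul_eq_zero {r : B}
    (hU : ∀ (q : Ideal B) [q.IsPrime], r ∉ q → FlatCA.FlatAt A q Q)
    (hf : Function.Injective f) (hfg : Function.Exact f g) (hg : Function.Surjective g)
    {X : Type u} [AddCommGroup X] [Module A X] (z : K ⊗[A] X)
    (hz : AlgebraTensorModule.rTensor A X f z = 0) : ∃ n : ℕ, r ^ n • z = 0 := by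
  suffices r ∈ Ideal.radical (LinearMap.ker (LinearMap.toSpanSingleton B _ z) : Ideal B) by
    obtain ⟨n, hn⟩ := this
    exact ⟨n, hn⟩
  rw [Ideal.radical_eq_sInf, Submodule.mem_sInf]
  rintro q ⟨hle, hq⟩
  by_contra hr
  haveI := hq
  haveI : Module.Flat A (LocalizedModule (Ideal.primeCompl q) Q) := hU q hr
  let S := Ideal.primeCompl q
  let fq : LocalizedModule S K →ₗ[B] LocalizedModule S P := (LocalizedModule.map S f).restrictScalars B
  have hinj : Function.Injective (AlgebraTensorModule.rTensor A X fq) :=
    rTensor_injective (g := (LocalizedModule.map S g).restrictScalars B) (LocalizedModule.map_injective S f hf)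
      (LocalizedModule.map_exact S f g hfg) (LocalizedModule.map_surjective S g hg) X
  have h1 : AlgebraTensorModule.rTensor A X fq
        (AlgebraTensorModule.rTensor A X (LocalizedModule.mkLinearMap S K) z) =
      AlgebraTensorModule.rTensor A X (LocalizedModule.mkLinearMap S P)
        (AlgebraTensorModule.rTensor A X f z) := by
    clear hz hle
    induction z using TensorProduct.induction_on with
    | zero => simp
    | tmul k x => simp [fq]
    | add a b ha hb => simp only [map_add, ha, hb]
  rw [hz, map_zero] at h1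
  have h2 := hinj (h1.trans (map_zero _).symm)
  obtain ⟨s, hs⟩ := (IsLocalizedModule.eq_zero_iff S
    (AlgebraTensorModule.rTensor A X (LocalizedModule.mkLinearMap S K))).mp h2
  exact s.2 (hle hs)

/-- Abstract step: `coker f` is flat if `f` stays injective on the closed fibre. -/
theorem flat_of_injective_fib [IsLocalRing A] [IsLocalRing B] [IsLocalHom (algebraMap A B)] [IsNoetherianRing A]
    [IsNoetherianRing B] [Module.Finite B K] [Module.Flat A P] (hfg : Function.Exact f g)
    (hg : Function.Surjective g)
    (h : Function.Injective (AlgebraTensorModule.rTensor A (A ⧸ maximalIdeal A) f)) : Module.Flat A Q := by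
  have h1 : ⇑(AlgebraTensorModule.rTensor A (A ⧸ maximalIdeal A) f) =
      ⇑((f.restrictScalars A).rTensor (A ⧸ maximalIdeal A)) := funext fun z => by
    induction z using TensorProduct.induction_on with
    | zero => simp
    | tmul k x => simp
    | add a b ha hb => simp only [map_add, ha, hb]
  rw [h1] at h
  obtain ⟨-, hfl⟩ := LocFlat.injective_and_flat_coker (R := A) (S := B) (f.restrictScalars A)
    ((LinearMap.lTensor_inj_iff_rTensor_inj _ _).mpr h)
  haveI := hfl
  refine Module.Flat.of_linearEquiv ((Submodule.quotEquivOfEq (LinearMap.range (f.restrictScalars A))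
    (LinearMap.ker (g.restrictScalars A)) ?_).trans
    ((g.restrictScalars A).quotKerEquivOfSurjective hg)).symm
  ext x
  exact ((hfg x).symm : x ∈ LinearMap.range (f.restrictScalars A) ↔ g x = 0)

theorem rTensor_surjective' (hg : Function.Surjective g) (X : Type u) [AddCommGroup X] [Module A X] :
    Function.Surjective (AlgebraTensorModule.rTensor A X g) := fun z => by
  induction z using TensorProduct.induction_on with
  | zero => exact ⟨0, map_zero _⟩
  | tmul k x => obtain ⟨y, rfl⟩ := hg k; exact ⟨y ⊗ₜ x, by simp⟩
  | add a b ha hb =>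
    obtain ⟨a', rfl⟩ := ha
    obtain ⟨b', rfl⟩ := hb
    exact ⟨a' + b', map_add _ _ _⟩

/-- `σ` is injective when its kernel is torsion along `J` and `0 → K → P → Q → 0` has enough depth. -/
theorem injective_of_depth [IsNoetherianRing B] {K P Q R : Type u} [AddCommGroup K] [Module B K] [Module.Finite B K]
    [AddCommGroup P] [Module B P] [Module.Finite B P] [AddCommGroup Q] [Module B Q] [Module.Finite B Q]
    [AddCommGroup R] [Module B R] {f : K →ₗ[B] P} {g : P →ₗ[B] Q} {σ : Q →ₗ[B] R} {J : Ideal B}
    (hP : 1 ≤ LocCoh.idealDepth J P) (hK : 2 ≤ LocCoh.idealDepth J K)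
    (hf : Function.Injective f) (hex : Function.Exact f g) (hg : Function.Surjective g)
    (htors : ∀ r ∈ J, ∀ z, σ z = 0 → ∃ n : ℕ, r ^ n • z = 0) : Function.Injective σ := by
  let Z := LinearMap.ker σ
  let Y := Z.comap g
  haveI : Module.Finite B Z := Module.Finite.iff_fg.mpr (IsNoetherian.noetherian Z)
  haveI : Module.Finite B Y := Module.Finite.iff_fg.mpr (IsNoetherian.noetherian Y)
  have hmem : ∀ x, f x ∈ Y := fun x => by
    show g (f x) ∈ Z
    rw [hex.apply_apply_eq_zero]; exact zero_mem _
  have hsurj : Function.Surjective (g.restrict (p := Y) (q := Z) (fun (y : P) (hy : y ∈ Y) => (hy : g y ∈ Z))) := by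
    rintro ⟨z, hz⟩
    obtain ⟨y, rfl⟩ := hg z
    exact ⟨⟨y, hz⟩, rfl⟩
  have hY : 1 ≤ LocCoh.idealDepth J Y :=
    DomMod.HomDepth.one_le_idealDepth_of_injective Y.subtype (Submodule.injective_subtype _) hP
  have hZ : 1 ≤ LocCoh.idealDepth J Z := by
    refine le_trans (le_min hY ?_) (Depth.min_le_idealDepth_X₃
      (f := f.codRestrict Y hmem) (fun x y h => hf (congrArg Subtype.val h)) hsurj (fun y => ?_))
    · calc (1 : ℕ∞) = 2 - 1 := rfl
        _ ≤ _ := tsub_le_tsub_right hK 1
    · refine ⟨fun h => ?_, ?_⟩
      · obtain ⟨x, hx⟩ := (hex y.1).mp (congrArg Subtype.val h)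
        exact ⟨x, Subtype.ext hx⟩
      · rintro ⟨x, rfl⟩
        exact Subtype.ext (hex.apply_apply_eq_zero x)
  obtain ⟨r, hrJ, hr⟩ := Depth.exists_isSMulRegular_of_one_le_idealDepth hZ
  rw [injective_iff_map_eq_zero]
  intro z hz
  obtain ⟨n, hn⟩ := htors r hrJ z hz
  exact congrArg Subtype.val ((hr.pow n).right_eq_zero_of_smul
    (show r ^ n • (⟨z, hz⟩ : Z) = 0 from Subtype.ext hn))

variable [IsLocalRing A] [IsLocalRing B] [IsLocalHom (algebraMap A B)] [IsNoetherianRing A] [IsNoetherianRing B]
  {F E0 E1 G : Type u} [AddCommGroup F] [Module B F] [Module A F] [IsScalarTower A B F] [Module.Finite B F]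
  [AddCommGroup E0] [Module B E0] [Module A E0] [IsScalarTower A B E0] [Module.Finite B E0] [Module.Flat A E0]
  [AddCommGroup E1] [Module B E1] [Module A E1] [IsScalarTower A B E1] [Module.Finite B E1] [Module.Flat A E1]
  [AddCommGroup G] [Module B G] [Module A G] [IsScalarTower A B G] [Module.Finite B G]
  {a : F →ₗ[B] E0} {u : E0 →ₗ[B] E1} {v : E1 →ₗ[B] G} {J : Ideal B}

omit [IsLocalRing B] [IsLocalHom (algebraMap A B)] in
theorem depth_tensor_residue (M : Type u) [AddCommGroup M] [Module B M] [Module A M] [IsScalarTower A B M]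
    [Module.Finite B M] :
    LocCoh.idealDepth J (M ⊗[A] (A ⧸ maximalIdeal A)) = LocCoh.idealDepth J (EGA4.FibMod A B M) := by
  obtain ⟨e⟩ := FibInj.exists_tensorQuotEquiv (A := A) (B := B) (M := M) (maximalIdeal A)
  exact Depth.idealDepth_congr e

omit [IsLocalRing B] [IsLocalHom (algebraMap A B)] [Module.Finite B G] in
theorem flat_left (ha : Function.Injective a) (hau : Function.Exact a u) (huv : Function.Exact u v)
    (hv : Function.Surjective v) [Module.Flat A G] : Module.Flat A F ∧
      ∀ (X : Type u) [AddCommGroup X] [Module A X],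
        Function.Injective (AlgebraTensorModule.rTensor A X a) ∧
          Function.Exact (AlgebraTensorModule.rTensor A X a) (AlgebraTensorModule.rTensor A X u) := by
  have h1 : Function.Exact (LinearMap.range u).subtype v :=
    LinearMap.exact_iff.mpr (by rw [Submodule.range_subtype]; exact LinearMap.exact_iff.mp huv)
  have h2 : Function.Exact a u.rangeRestrict :=
    LinearMap.exact_iff.mpr (by rw [LinearMap.ker_rangeRestrict]; exact LinearMap.exact_iff.mp hau)
  haveI : Module.Flat A (LinearMap.range u) := flat_of_flat_of_flat (Submodule.injective_subtype _) h1 hv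
  refine ⟨flat_of_flat_of_flat ha h2 u.surjective_rangeRestrict, fun X _ _ =>
    ⟨rTensor_injective ha h2 u.surjective_rangeRestrict X, fun z => ?_⟩⟩
  have h3 := rTensor_exact' (A := A) h2 u.surjective_rangeRestrict X
  have hu : AlgebraTensorModule.rTensor A X u z = AlgebraTensorModule.rTensor A X (LinearMap.range u).subtype
      (AlgebraTensorModule.rTensor A X u.rangeRestrict z) := by
    clear h3
    induction z using TensorProduct.induction_on with
    | zero => simp
    | tmul k x => simp
    | add a b ha hb => simp only [map_add, ha, hb]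
  rw [← h3 z, hu, (rTensor_injective (Submodule.injective_subtype _) h1 hv X).eq_iff' (map_zero _)]

omit [IsLocalRing B] [IsLocalHom (algebraMap A B)] [Module.Finite B G] in
theorem two_le_fib (ha : Function.Injective a) (hau : Function.Exact a u) (huv : Function.Exact u v)
    (hv : Function.Surjective v) [Module.Flat A G] (h0 : 2 ≤ LocCoh.idealDepth J (EGA4.FibMod A B E0))
    (h1 : 1 ≤ LocCoh.idealDepth J (EGA4.FibMod A B E1)) : 2 ≤ LocCoh.idealDepth J (EGA4.FibMod A B F) := by
  haveI : Module.Finite B (F ⊗[A] (A ⧸ maximalIdeal A)) := LocFlat.finite_tensor F _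
  haveI : Module.Finite B (E0 ⊗[A] (A ⧸ maximalIdeal A)) := LocFlat.finite_tensor E0 _
  haveI : Module.Finite B (E1 ⊗[A] (A ⧸ maximalIdeal A)) := LocFlat.finite_tensor E1 _
  rw [← depth_tensor_residue] at h0 h1 ⊢
  obtain ⟨hi, he⟩ := (flat_left (A := A) ha hau huv hv).2 (A ⧸ maximalIdeal A)
  exact two_le_of_exact _ _ hi he h0 h1

omit [Module.Finite B G] in
theorem flat_right (ha : Function.Injective a) (hau : Function.Exact a u) (huv : Function.Exact u v)
    (hv : Function.Surjective v)
    (hGU : ∀ q : PrimeSpectrum B, ¬ J ≤ q.asIdeal → FlatCA.FlatAt A q.asIdeal G)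
    (h0 : 1 ≤ LocCoh.idealDepth J (EGA4.FibMod A B E0))
    (hF : 2 ≤ LocCoh.idealDepth J (EGA4.FibMod A B F)) : Module.Flat A G := by
  haveI : Module.Finite B (F ⊗[A] (A ⧸ maximalIdeal A)) := LocFlat.finite_tensor F _
  haveI : Module.Finite B (E0 ⊗[A] (A ⧸ maximalIdeal A)) := LocFlat.finite_tensor E0 _
  haveI : Module.Finite B (LinearMap.range u) := Module.Finite.range u
  haveI : Module.Finite B ((LinearMap.range u) ⊗[A] (A ⧸ maximalIdeal A)) := LocFlat.finite_tensor _ _
  let k := A ⧸ maximalIdeal A
  set ι := (LinearMap.range u).subtype with hι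
  set ρ := u.rangeRestrict with hρdef
  have hιinj : Function.Injective ι := Submodule.injective_subtype _
  have h1 : Function.Exact ι v :=
    LinearMap.exact_iff.mpr (by rw [hι, Submodule.range_subtype]; exact LinearMap.exact_iff.mp huv)
  have hρ : Function.Surjective ρ := u.surjective_rangeRestrict
  have h2 : Function.Exact a ρ :=
    LinearMap.exact_iff.mpr (by rw [hρdef, LinearMap.ker_rangeRestrict]; exact LinearMap.exact_iff.mp hau)
  have hIU : ∀ q : PrimeSpectrum B, ¬ J ≤ q.asIdeal → FlatCA.FlatAt A q.asIdeal (LinearMap.range u) :=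
    fun q hq => flatAt_of_flatAt hιinj h1 hv q.asIdeal (hGU q hq)
  rw [← depth_tensor_residue] at h0 hF
  have hai : Function.Injective (AlgebraTensorModule.rTensor A k a) := by
    obtain ⟨r, hrJ, hr⟩ := Depth.exists_isSMulRegular_of_one_le_idealDepth (one_le_two.trans hF)
    rw [injective_iff_map_eq_zero]
    intro z hz
    obtain ⟨n, hn⟩ := exists_pow_smul_eq_zero (r := r)
      (fun q _ hq => hIU ⟨q, ‹_›⟩ fun hle => hq (hle hrJ)) ha h2 hρ z hz
    exact (hr.pow n).right_eq_zero_of_smul hn
  have hex : Function.Exact (AlgebraTensorModule.rTensor A k a) (AlgebraTensorModule.rTensor A k ρ) :=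
    rTensor_exact' (A := A) h2 hρ k
  exact flat_of_injective_fib (A := A) (f := ι) (g := v) h1 hv
    (injective_of_depth h0 hF hai hex (rTensor_surjective' (A := A) hρ k) fun r hrJ z hz =>
      exists_pow_smul_eq_zero (r := r) (fun q _ hq => hGU ⟨q, ‹_›⟩ fun hle => hq (hle hrJ)) hιinj h1 hv z hz)

end Groth.Agent.QGorLib.FourTermFlat
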