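import Groth.Agent.DomMod.HomDepth
import Groth.Agent.LocFlat.Basic
import Groth.Prelude.Def_EGA4b
import Groth.Prelude.Def_FlatCA
import Mathlib.LinearAlgebra.DirectSum.Finsupp
import Mathlib.LinearAlgebra.TensorProduct.Pi
import Mathlib.LinearAlgebra.TensorProduct.Quotient
import Mathlib.RingTheory.Localization.BaseChange
import Mathlib.RingTheory.TensorProduct.Finite
import Mathlib.LinearAlgebra.FreeModule.Basic

/-!
Flatness from flatness off `V(J)` and depth of the closed fibre along `J`.
-/

set_option autoImplicit false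
set_option linter.style.haveILetI false
set_option maxHeartbeats 400000

universe u

open TensorProduct IsLocalRing

namespace Groth.Agent.QGorLib.FibInj

variable {A B : Type u} [CommRing A] [CommRing B] [Algebra A B]
variable {M : Type u} [AddCommGroup M] [Module B M] [Module A M] [IsScalarTower A B M]

theorem exists_tensorQuotEquiv (I : Ideal A) :
    Nonempty ((M ⊗[A] (A ⧸ I)) ≃ₗ[B] (M ⧸ (I.map (algebraMap A B) • (⊤ : Submodule B M)))) := by
  let f : M →ₗ[B] M ⊗[A] (A ⧸ I) :=
    { toFun := fun x => x ⊗ₜ (1 : A ⧸ I)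
      map_add' := fun x y => add_tmul x y _
      map_smul' := fun b x => (smul_tmul' b x (1 : A ⧸ I)).symm }
  have hf : Function.Surjective f := fun z => by
    induction z using TensorProduct.induction_on with
    | zero => exact ⟨0, map_zero f⟩
    | tmul x c =>
      obtain ⟨a, rfl⟩ := Ideal.Quotient.mk_surjective c
      refine ⟨a • x, ?_⟩
      show (a • x) ⊗ₜ (1 : A ⧸ I) = _
      rw [smul_tmul]
      congr 1
      rw [Algebra.smul_def, mul_one]
      rfl
    | add y z hy hz =>
      obtain ⟨y', rfl⟩ := hy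
      obtain ⟨z', rfl⟩ := hz
      exact ⟨y' + z', map_add f y' z'⟩
  have hk : LinearMap.ker f = I.map (algebraMap A B) • (⊤ : Submodule B M) := by
    ext x
    have h1 : x ∈ LinearMap.ker f ↔ (Submodule.Quotient.mk x : M ⧸ (I • (⊤ : Submodule A M))) = 0 := by
      rw [LinearMap.mem_ker, ← (tensorQuotEquivQuotSMul M I).symm.map_eq_zero_iff,
        tensorQuotEquivQuotSMul_symm_mk]
      rfl
    rw [h1, Submodule.Quotient.mk_eq_zero, ← Submodule.restrictScalars_top A B M, ← Ideal.smul_restrictScalars]
    rfl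
  exact ⟨(f.quotKerEquivOfSurjective hf).symm ≪≫ₗ Submodule.quotEquivOfEq _ _ hk⟩

/-- The kernel of `M ⊗ a` is killed by a power of `r` when `M` is flat off `V(r)`. -/
theorem exists_pow_smul_eq_zero {r : B}
    (hU : ∀ (q : Ideal B) [q.IsPrime], r ∉ q → FlatCA.FlatAt A q M)
    {X Y : Type u} [AddCommGroup X] [Module A X] [AddCommGroup Y] [Module A Y] (a : X →ₗ[A] Y)
    (ha : Function.Injective a) (z : M ⊗[A] X) (hz : AlgebraTensorModule.lTensor B M a z = 0) :
    ∃ n : ℕ, r ^ n • z = 0 := by
  suffices r ∈ Ideal.radical (LinearMap.ker (LinearMap.toSpanSingleton B _ z) : Ideal B) by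
    obtain ⟨n, hn⟩ := this
    exact ⟨n, hn⟩
  rw [Ideal.radical_eq_sInf, Submodule.mem_sInf]
  rintro q ⟨hle, hq⟩
  by_contra hr
  haveI := hq
  have hfl : Module.Flat A (LocalizedModule (Ideal.primeCompl q) M) := hU q hr
  let g := LocalizedModule.mkLinearMap (Ideal.primeCompl q) M
  have h1 : AlgebraTensorModule.lTensor B (LocalizedModule (Ideal.primeCompl q) M) a
      (AlgebraTensorModule.rTensor A X g z) = AlgebraTensorModule.rTensor A Y g
        (AlgebraTensorModule.lTensor B M a z) := by
    induction z using TensorProduct.induction_on with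
    | zero => simp
    | tmul x c => simp
    | add y z hy hz => exact LinearMap.congr_fun (TensorProduct.ext (R := A) (LinearMap.ext fun x => LinearMap.ext fun c => by simp) : (LinearMap.restrictScalars A ((AlgebraTensorModule.lTensor B (LocalizedModule (Ideal.primeCompl q) M) a) ∘ₗ AlgebraTensorModule.rTensor A X g)) = LinearMap.restrictScalars A (AlgebraTensorModule.rTensor A Y g ∘ₗ AlgebraTensorModule.lTensor B M a)) _
  rw [hz, map_zero] at h1
  have h2 : AlgebraTensorModule.rTensor A X g z = 0 :=
    (Module.Flat.lTensor_preserves_injective_linearMap (M := LocalizedModule (Ideal.primeCompl q) M) a ha)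
      (h1.trans (map_zero _).symm)
  obtain ⟨s, hs⟩ := (IsLocalizedModule.eq_zero_iff (Ideal.primeCompl q) (AlgebraTensorModule.rTensor A X g)).mp h2
  exact s.2 (hle hs)

theorem lTensor_injective {r : B} (hU : ∀ (q : Ideal B) [q.IsPrime], r ∉ q → FlatCA.FlatAt A q M)
    {X Y : Type u} [AddCommGroup X] [Module A X] [AddCommGroup Y] [Module A Y] (a : X →ₗ[A] Y)
    (ha : Function.Injective a) (hX : IsSMulRegular (M ⊗[A] X) r) :
    Function.Injective (AlgebraTensorModule.lTensor B M a) := by
  rw [injective_iff_map_eq_zero]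
  intro z hz
  obtain ⟨n, hn⟩ := exists_pow_smul_eq_zero hU a ha z hz
  exact (hX.pow n).right_eq_zero_of_smul hn

variable [IsLocalRing A]

theorem exists_equiv_finsupp (X : Type u) [AddCommGroup X] [Module A X]
    (hX : maximalIdeal A • (⊤ : Submodule A X) = ⊥) :
    ∃ ι : Type u, (Module.Finite A X → Finite ι) ∧
      Nonempty ((M ⊗[A] X) ≃ₗ[B] (ι →₀ EGA4.FibMod A B M)) := by
  classical
  have htor : Module.IsTorsionBySet A X (maximalIdeal A : Set A) := fun x a => by
    have : (a : A) • x ∈ maximalIdeal A • (⊤ : Submodule A X) :=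
      Submodule.smul_mem_smul a.2 Submodule.mem_top
    rwa [hX, Submodule.mem_bot] at this
  letI : Module (A ⧸ maximalIdeal A) X := htor.module
  haveI : IsScalarTower A (A ⧸ maximalIdeal A) X := htor.isScalarTower
  letI : Field (A ⧸ maximalIdeal A) := Ideal.Quotient.field _
  let b := Module.Free.chooseBasis (A ⧸ maximalIdeal A) X
  refine ⟨Module.Free.ChooseBasisIndex (A ⧸ maximalIdeal A) X, fun hfin => ?_, ?_⟩
  · haveI := hfin
    haveI : Module.Finite (A ⧸ maximalIdeal A) X := Module.Finite.of_restrictScalars_finite A _ X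
    exact Finite.of_fintype _
  · obtain ⟨e⟩ := exists_tensorQuotEquiv (A := A) (B := B) (M := M) (maximalIdeal A)
    exact ⟨AlgebraTensorModule.congr (LinearEquiv.refl B M) (b.repr.restrictScalars A) ≪≫ₗ
      TensorProduct.finsuppRight A B M (A ⧸ maximalIdeal A) _ ≪≫ₗ Finsupp.mapRange.linearEquiv e⟩

theorem exact_lTensor {X Y Z : Type u} [AddCommGroup X] [Module A X] [AddCommGroup Y] [Module A Y]
    [AddCommGroup Z] [Module A Z] {i : X →ₗ[A] Y} {p : Y →ₗ[A] Z} (hip : Function.Exact i p)
    (hp : Function.Surjective p) :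
    Function.Exact (AlgebraTensorModule.lTensor B M i) (AlgebraTensorModule.lTensor B M p) :=
  _root_.lTensor_exact M hip hp

theorem isSMulRegular_tensor {r : B} (hU : ∀ (q : Ideal B) [q.IsPrime], r ∉ q → FlatCA.FlatAt A q M)
    (hr : IsSMulRegular (EGA4.FibMod A B M) r) :
    ∀ (n : ℕ) (X : Type u) [AddCommGroup X] [Module A X],
      maximalIdeal A ^ n • (⊤ : Submodule A X) = ⊥ → IsSMulRegular (M ⊗[A] X) r := by
  intro n
  induction n with
  | zero =>
    intro X _ _ h
    rw [pow_zero, Ideal.one_eq_top, Submodule.top_smul] at h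
    haveI : Subsingleton X := subsingleton_of_forall_eq 0 fun x => by
      simpa [h] using (Submodule.mem_top : x ∈ (⊤ : Submodule A X))
    intro y z _
    exact Subsingleton.elim y z
  | succ n ih =>
    intro X _ _ h
    let Y : Submodule A X := maximalIdeal A • ⊤
    have hY : maximalIdeal A ^ n • (⊤ : Submodule A Y) = ⊥ := by
      apply Submodule.map_injective_of_injective Y.injective_subtype
      rw [Submodule.map_smul'', Submodule.map_top, Submodule.range_subtype, Submodule.map_bot]
      show maximalIdeal A ^ n • (maximalIdeal A • ⊤ : Submodule A X) = ⊥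
      rw [← mul_smul, ← pow_succ]
      exact h
    have hQ : maximalIdeal A • (⊤ : Submodule A (X ⧸ Y)) = ⊥ := by
      have : Submodule.map Y.mkQ (maximalIdeal A • ⊤) = maximalIdeal A • ⊤ := by
        rw [Submodule.map_smul'', Submodule.map_top, Submodule.range_mkQ]
      rw [← this, eq_bot_iff, Submodule.map_le_iff_le_comap, Submodule.comap_bot, Submodule.ker_mkQ]
    obtain ⟨ι, -, ⟨e⟩⟩ := exists_equiv_finsupp (B := B) (M := M) (X ⧸ Y) hQ
    have hQr : IsSMulRegular (M ⊗[A] (X ⧸ Y)) r :=
      (e.isSMulRegular_congr r).mpr fun x y hxy => Finsupp.ext fun i => hr (DFunLike.congr_fun hxy i)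
    have hYr := ih Y hY
    exact IsSMulRegular.of_right_eq_zero_of_smul fun z hz => by
      have h1 : AlgebraTensorModule.lTensor B M Y.mkQ z = 0 :=
        hQr.right_eq_zero_of_smul (by rw [← map_smul, hz, map_zero])
      obtain ⟨y, rfl⟩ := (exact_lTensor (LinearMap.exact_subtype_mkQ Y) Y.mkQ_surjective z).mp h1
      rw [← map_smul] at hz
      rw [hYr.right_eq_zero_of_smul (lTensor_injective hU _ Y.injective_subtype hYr
        (hz.trans (map_zero _).symm)), map_zero]

theorem flat [IsNoetherianRing A] [IsNoetherianRing B] [IsLocalRing B] [IsLocalHom (algebraMap A B)]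
    [Module.Finite B M] {r : B}
    (hU : ∀ (q : Ideal B) [q.IsPrime], r ∉ q → FlatCA.FlatAt A q M)
    (hr : IsSMulRegular (EGA4.FibMod A B M) r) : Module.Flat A M := by
  refine LocFlat.flat_of_forall_pow (S := B) M (maximalIdeal A)
    (LocFlat.map_le_jacobson _ (maximalIdeal.isMaximal A).ne_top) fun n X Y _ _ _ _ a ha hY => ?_
  have hX : maximalIdeal A ^ n • (⊤ : Submodule A X) = ⊥ := by
    apply Submodule.map_injective_of_injective ha
    rw [Submodule.map_smul'', Submodule.map_bot, eq_bot_iff, ← hY]
    exact Submodule.smul_mono le_rfl le_top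
  rw [← LinearMap.lTensor_inj_iff_rTensor_inj]
  exact lTensor_injective hU a ha (isSMulRegular_tensor hU hr n X hX)

theorem two_le_depth_tensor [IsNoetherianRing A] [IsNoetherianRing B] [Module.Finite B M]
    [Module.Flat A M] (J : Ideal B) (h2 : 2 ≤ LocCoh.idealDepth J (EGA4.FibMod A B M)) :
    ∀ (n : ℕ) (X : Type u) [AddCommGroup X] [Module A X] [Module.Finite A X],
      maximalIdeal A ^ n • (⊤ : Submodule A X) = ⊥ → 2 ≤ LocCoh.idealDepth J (M ⊗[A] X) := by
  intro n
  induction n with
  | zero =>
    intro X _ _ _ h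
    rw [pow_zero, Ideal.one_eq_top, Submodule.top_smul] at h
    haveI : Subsingleton X := subsingleton_of_forall_eq 0 fun x => by
      simpa [h] using (Submodule.mem_top : x ∈ (⊤ : Submodule A X))
    rw [Depth.idealDepth_eq_top_of_subsingleton]
    exact le_top
  | succ n ih =>
    intro X _ _ _ h
    let Y : Submodule A X := maximalIdeal A • ⊤
    haveI : Module.Finite A Y := Module.Finite.iff_fg.mpr (IsNoetherian.noetherian Y)
    haveI : Module.Finite B (M ⊗[A] X) := LocFlat.finite_tensor M X
    haveI : Module.Finite B (M ⊗[A] Y) := LocFlat.finite_tensor M Y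
    haveI : Module.Finite B (M ⊗[A] (X ⧸ Y)) := LocFlat.finite_tensor M _
    have hY : maximalIdeal A ^ n • (⊤ : Submodule A Y) = ⊥ := by
      apply Submodule.map_injective_of_injective Y.injective_subtype
      rw [Submodule.map_smul'', Submodule.map_top, Submodule.range_subtype, Submodule.map_bot]
      show maximalIdeal A ^ n • (maximalIdeal A • ⊤ : Submodule A X) = ⊥
      rw [← mul_smul, ← pow_succ]
      exact h
    have hQ : maximalIdeal A • (⊤ : Submodule A (X ⧸ Y)) = ⊥ := by
      have : Submodule.map Y.mkQ (maximalIdeal A • ⊤) = maximalIdeal A • ⊤ := by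
        rw [Submodule.map_smul'', Submodule.map_top, Submodule.range_mkQ]
      rw [← this, eq_bot_iff, Submodule.map_le_iff_le_comap, Submodule.comap_bot, Submodule.ker_mkQ]
    obtain ⟨ι, hι, ⟨e⟩⟩ := exists_equiv_finsupp (B := B) (M := M) (X ⧸ Y) hQ
    haveI : Finite ι := hι inferInstance
    haveI : Fintype ι := Fintype.ofFinite ι
    let e' := e ≪≫ₗ Finsupp.linearEquivFunOnFinite B (EGA4.FibMod A B M) ι ≪≫ₗ
      LinearEquiv.funCongrLeft B (EGA4.FibMod A B M) (Fintype.equivFin ι).symm
    have hQ2 : 2 ≤ LocCoh.idealDepth J (M ⊗[A] (X ⧸ Y)) := by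
      rw [Depth.idealDepth_congr e']
      exact h2.trans (DomMod.HomDepth.le_idealDepth_pi _ _)
    refine le_trans (le_min (ih Y hY) hQ2) (Depth.min_le_idealDepth_X₂
      (f := AlgebraTensorModule.lTensor B M Y.subtype) (g := AlgebraTensorModule.lTensor B M Y.mkQ)
      ?_ ?_ (exact_lTensor (LinearMap.exact_subtype_mkQ Y) Y.mkQ_surjective))
    · exact Module.Flat.lTensor_preserves_injective_linearMap (M := M) Y.subtype Y.injective_subtype
    · exact LinearMap.lTensor_surjective M Y.mkQ_surjective

end Groth.Agent.QGorLib.FibInj
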