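import Groth.Agent.QGorLib.Refl
import Mathlib.Algebra.Module.FinitePresentation
import Mathlib.RingTheory.LocalRing.Module
import Mathlib.LinearAlgebra.Matrix.ToLin
import Mathlib.RingTheory.Localization.Module

/-!
A reflexive module which is free off `V(J)` has a four term free presentation whose cokernel is free off `V(J)`.
-/

set_option autoImplicit false
set_option linter.style.haveILetI false
set_option maxHeartbeats 400000

universe u

namespace Groth.Agent.QGorLib.FourTerm

variable {B : Type u} [CommRing B]

/-- Transpose of a map of finite free modules. -/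
noncomputable def tr {a b : ℕ} (u : (Fin a → B) →ₗ[B] (Fin b → B)) : (Fin b → B) →ₗ[B] (Fin a → B) :=
  Matrix.toLin' (LinearMap.toMatrix' u).transpose

theorem tr_apply {a b : ℕ} (u : (Fin a → B) →ₗ[B] (Fin b → B)) (v : Fin b → B) (j : Fin a) :
    tr u v j = ∑ i, v i * u (Pi.single j 1) i := by
  simp [tr, Matrix.toLin'_apply, Matrix.mulVec, dotProduct, LinearMap.toMatrix'_apply, mul_comm]

theorem tr_comp {a b c : ℕ} (u : (Fin b → B) →ₗ[B] (Fin c → B)) (v : (Fin a → B) →ₗ[B] (Fin b → B)) :
    tr (u ∘ₗ v) = tr v ∘ₗ tr u := by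
  rw [tr, tr, tr, LinearMap.toMatrix'_comp, Matrix.transpose_mul, Matrix.toLin'_mul]

theorem tr_smul {a b : ℕ} (c : B) (u : (Fin a → B) →ₗ[B] (Fin b → B)) : tr (c • u) = c • tr u := by
  rw [tr, tr, map_smul, Matrix.transpose_smul, map_smul]

/-- If `π : P → Q` is surjective and `Q` is free at `S`, it splits up to an element of `S`. -/
theorem exists_split [IsNoetherianRing B] (S : Submonoid B) {P Q : Type u} [AddCommGroup P] [Module B P]
    [Module.Finite B P] [AddCommGroup Q] [Module B Q] [Module.Finite B Q] (π : P →ₗ[B] Q)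
    (hπ : Function.Surjective π) [Module.Projective (Localization S) (LocalizedModule S Q)] :
    ∃ t ∈ S, ∃ σ : Q →ₗ[B] P, π ∘ₗ σ = t • LinearMap.id := by
  haveI : Module.FinitePresentation B Q := Module.finitePresentation_of_finite B Q
  obtain ⟨σq, hσq⟩ := Module.projective_lifting_property (LocalizedModule.map S π) LinearMap.id
    (LocalizedModule.map_surjective S π hπ)
  obtain ⟨⟨σ, t⟩, hσ⟩ := IsLocalizedModule.surj S (IsLocalizedModule.mapExtendScalars S
    (LocalizedModule.mkLinearMap S Q) (LocalizedModule.mkLinearMap S P) (Localization S)) σq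
  have h1 : LocalizedModule.map S (π ∘ₗ σ) = LocalizedModule.map S ((t : B) • LinearMap.id) := by
    refine LinearMap.ext fun x => ?_
    induction x using LocalizedModule.induction_on with
    | h q s =>
      have h2 := LinearMap.congr_fun hσ (LocalizedModule.mk q s)
      change t • σq (LocalizedModule.mk q s) = LocalizedModule.map S σ (LocalizedModule.mk q s) at h2
      rw [LocalizedModule.map_mk] at h2
      rw [LocalizedModule.map_mk, LocalizedModule.map_mk, LinearMap.comp_apply, ← LocalizedModule.map_mk,
        ← h2, Submonoid.smul_def, LinearMap.map_smul_of_tower]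
      have h3 := LinearMap.congr_fun hσq (LocalizedModule.mk q s)
      rw [LinearMap.comp_apply, LinearMap.id_apply] at h3
      rw [h3, LocalizedModule.smul'_mk]
      rfl
  obtain ⟨c, hc⟩ := IsLocalizedModule.exists_of_eq (S := S)
    (f := IsLocalizedModule.mapExtendScalars S (LocalizedModule.mkLinearMap S Q)
      (LocalizedModule.mkLinearMap S Q) (Localization S)) h1
  refine ⟨c * t, S.mul_mem c.2 t.2, (c : B) • σ, ?_⟩
  rw [LinearMap.comp_smul, mul_smul]
  exact hc

/-- The dual of a module which is free at `q` is free at `q`. -/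
theorem free_dual [IsNoetherianRing B] (q : Ideal B) [q.IsPrime] (F : Type u) [AddCommGroup F]
    [Module B F] [Module.Finite B F]
    [Module.Free (Localization.AtPrime q) (LocalizedModule q.primeCompl F)] :
    Module.Free (Localization.AtPrime q) (LocalizedModule q.primeCompl (Module.Dual B F)) := by
  haveI : Module.FinitePresentation B F := Module.finitePresentation_of_finite B F
  haveI : Module.Finite (Localization.AtPrime q) (LocalizedModule q.primeCompl F) :=
    Module.Finite.of_isLocalizedModule q.primeCompl (LocalizedModule.mkLinearMap q.primeCompl F)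
  haveI : Module.Free (Localization.AtPrime q) (LocalizedModule q.primeCompl B) :=
    Module.Free.of_basis ((Module.Basis.singleton Unit B).ofIsLocalizedModule (Localization.AtPrime q)
      q.primeCompl (LocalizedModule.mkLinearMap q.primeCompl B))
  haveI : Module.Finite (Localization.AtPrime q) (LocalizedModule q.primeCompl B) :=
    Module.Finite.of_isLocalizedModule q.primeCompl (LocalizedModule.mkLinearMap q.primeCompl B)
  exact Module.Free.of_equiv ((Module.FinitePresentation.linearEquivMapExtendScalars (M := F) (N := B)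
    q.primeCompl).extendScalarsOfIsLocalization q.primeCompl (Localization.AtPrime q)).symm

/-- The cokernel of a map `h` with `h s h = t h`, `t ∉ q`, is free at `q`. -/
theorem free_coker [IsNoetherianRing B] (q : Ideal B) [q.IsPrime] {a b : ℕ}
    (h : (Fin a → B) →ₗ[B] (Fin b → B)) (s : (Fin b → B) →ₗ[B] (Fin a → B)) {t : B} (ht : t ∉ q)
    (hs : h ∘ₗ s ∘ₗ h = t • h) :
    Module.Free (Localization.AtPrime q) (LocalizedModule q.primeCompl ((Fin b → B) ⧸ LinearMap.range h)) := by
  set G := (Fin b → B) ⧸ LinearMap.range h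
  let τ : G →ₗ[B] (Fin b → B) := (LinearMap.range h).liftQ (t • LinearMap.id - h ∘ₗ s) (by
    rintro _ ⟨x, rfl⟩
    have hx := LinearMap.congr_fun hs x
    simp only [LinearMap.comp_apply, LinearMap.smul_apply] at hx
    simp [hx])
  have hτ : (LinearMap.range h).mkQ ∘ₗ τ = t • LinearMap.id := by
    refine Submodule.linearMap_qext _ (LinearMap.ext fun x => ?_)
    simp [τ]
  haveI : Module.Finite (Localization.AtPrime q) (LocalizedModule q.primeCompl G) :=
    Module.Finite.of_isLocalizedModule q.primeCompl (LocalizedModule.mkLinearMap q.primeCompl G)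
  haveI : Module.Free (Localization.AtPrime q) (LocalizedModule q.primeCompl (Fin b → B)) :=
    Module.Free.of_basis ((Pi.basisFun B (Fin b)).ofIsLocalizedModule (Localization.AtPrime q)
      q.primeCompl (LocalizedModule.mkLinearMap q.primeCompl (Fin b → B)))
  have hu : IsUnit (algebraMap B (Localization.AtPrime q) t) :=
    IsLocalization.map_units (Localization.AtPrime q) (⟨t, ht⟩ : q.primeCompl)
  haveI : Module.Projective (Localization.AtPrime q) (LocalizedModule q.primeCompl G) := by
    refine Module.Projective.of_split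
      ((↑hu.unit⁻¹ : Localization.AtPrime q) • LocalizedModule.map q.primeCompl τ)
      (LocalizedModule.map q.primeCompl (LinearMap.range h).mkQ) (LinearMap.ext fun x => ?_)
    rw [LinearMap.comp_smul, LinearMap.smul_apply, LinearMap.comp_apply, LinearMap.id_apply]
    induction x using LocalizedModule.induction_on with
    | h y c =>
      rw [LocalizedModule.map_mk, LocalizedModule.map_mk, ← LinearMap.comp_apply, hτ, LinearMap.smul_apply,
        LinearMap.id_apply, ← LocalizedModule.smul'_mk, ← algebraMap_smul (Localization.AtPrime q) t,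
        smul_smul, IsUnit.val_inv_mul, one_smul]
  exact Module.free_of_flat_of_isLocalRing

theorem exists_fourTerm [IsNoetherianRing B] (J : Ideal B) (F : Type u) [AddCommGroup F] [Module B F]
    [Module.Finite B F] [Module.IsReflexive B F]
    (hU : ∀ q : PrimeSpectrum B, ¬ J ≤ q.asIdeal →
      Module.Free (Localization.AtPrime q.asIdeal) (LocalizedModule q.asIdeal.primeCompl F)) :
    ∃ (n m : ℕ) (g : F →ₗ[B] (Fin n → B)) (h : (Fin n → B) →ₗ[B] (Fin m → B)),
      Function.Injective g ∧ Function.Exact g h ∧
      ∀ q : PrimeSpectrum B, ¬ J ≤ q.asIdeal →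
        Module.Free (Localization.AtPrime q.asIdeal)
          (LocalizedModule q.asIdeal.primeCompl ((Fin m → B) ⧸ LinearMap.range h)) := by
  classical
  haveI := Refl.finite_dual (A := B) F
  obtain ⟨n, π, hπ⟩ := Module.Finite.exists_fin' B (Module.Dual B F)
  haveI : Module.Finite B (LinearMap.ker π) := Module.Finite.iff_fg.mpr (IsNoetherian.noetherian _)
  obtain ⟨m, ρ, hρ⟩ := Module.Finite.exists_fin' B (LinearMap.ker π)
  let ψ : (Fin m → B) →ₗ[B] (Fin n → B) := (LinearMap.ker π).subtype ∘ₗ ρ
  let f : F →ₗ[B] (Fin n → B) := LinearMap.pi fun i => π (Pi.single i 1)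
  have hfval : ∀ x z, π z x = ∑ i, z i * f x i := fun x z => by
    conv_lhs => rw [pi_eq_sum_univ' z]
    simp [f]
  refine ⟨n, m, f, tr ψ, fun x y hxy => ?_, fun v => ⟨fun hv => ?_, ?_⟩, fun q hq => ?_⟩
  · refine (Module.bijective_dual_eval B F).1 (LinearMap.ext fun φ => ?_)
    obtain ⟨z, rfl⟩ := hπ φ
    simp only [Module.Dual.eval_apply, hfval, hxy]
  · let V : (Fin n → B) →ₗ[B] B := Fintype.linearCombination B v
    have hV : LinearMap.ker π ≤ LinearMap.ker V := by
      intro z hz
      obtain ⟨w, hw⟩ := hρ ⟨z, hz⟩
      have h1 : V ∘ₗ ψ = 0 := by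
        refine (Pi.basisFun B (Fin m)).ext fun j => ?_
        have h2 : tr ψ v j = 0 := congrFun hv j
        rw [tr_apply] at h2
        simpa [V, Fintype.linearCombination_apply, mul_comm] using h2
      have h3 := LinearMap.congr_fun h1 w
      simpa [ψ, hw] using h3
    let Y : Module.Dual B (Module.Dual B F) :=
      (LinearMap.ker π).liftQ V hV ∘ₗ (π.quotKerEquivOfSurjective hπ).symm.toLinearMap
    obtain ⟨x, hx⟩ := (Module.bijective_dual_eval B F).2 Y
    refine ⟨x, funext fun i => ?_⟩
    have h4 := LinearMap.congr_fun hx (π (Pi.single i 1))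
    have h5 : (π.quotKerEquivOfSurjective hπ).symm (π (Pi.single i 1)) =
        Submodule.Quotient.mk (Pi.single i 1) := by rw [LinearEquiv.symm_apply_eq]; rfl
    simpa [f, Y, h5, V, Fintype.linearCombination_apply_single] using h4
  · rintro ⟨x, rfl⟩
    funext j
    have h6 : π (ψ (Pi.single j 1)) = 0 := (ρ (Pi.single j 1)).2
    have h7 := hfval x (ψ (Pi.single j 1))
    rw [h6, LinearMap.zero_apply] at h7
    rw [tr_apply, Pi.zero_apply, h7]
    exact Finset.sum_congr rfl fun i _ => mul_comm _ _
  · haveI := hU q hq
    haveI := free_dual q.asIdeal F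
    obtain ⟨t, ht, σ, hσ⟩ := exists_split q.asIdeal.primeCompl π hπ
    have hmem : ∀ z, ((t • LinearMap.id : (Fin n → B) →ₗ[B] (Fin n → B)) - σ ∘ₗ π) z ∈ LinearMap.ker π := fun z => by
      have h8 := LinearMap.congr_fun hσ (π z)
      simp only [LinearMap.comp_apply, LinearMap.smul_apply, LinearMap.id_apply] at h8
      simp [h8]
    obtain ⟨s, hs⟩ := Module.projective_lifting_property ρ (LinearMap.codRestrict _ _ hmem) hρ
    refine free_coker q.asIdeal (tr ψ) (tr s) ht ?_
    rw [← tr_comp, ← tr_comp, ← tr_smul]
    congr 1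
    refine LinearMap.ext fun y => ?_
    have h9 := congrArg Subtype.val (LinearMap.congr_fun hs (ψ y))
    have h10 : π (ψ y) = 0 := (ρ y).2
    simp only [LinearMap.comp_apply, LinearMap.codRestrict_apply, LinearMap.sub_apply,
      LinearMap.smul_apply, LinearMap.id_apply, h10, map_zero, sub_zero] at h9
    simpa [ψ] using h9

end Groth.Agent.QGorLib.FourTerm
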