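import Groth.Agent.DomMod.HomDepth
import Groth.Agent.Dim.Localized

/-!
Serre's conditions for kernels.
-/

set_option autoImplicit false
set_option linter.style.haveILetI false
set_option maxHeartbeats 400000

universe u

namespace Groth.Agent.QGorLib.KerSk

open Groth.Agent.Depth

section Local

variable {S : Type u} [CommRing S] [IsLocalRing S] [IsNoetherianRing S]
  {G E0 E1 : Type u} [AddCommGroup G] [Module S G] [Module.Finite S G] [AddCommGroup E0] [Module S E0]
  [Module.Finite S E0] [AddCommGroup E1] [Module S E1] [Module.Finite S E1]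

theorem one_le_withBot_iff {x : WithBot ℕ∞} {d : ℕ∞} (h : x = d) : (1 : WithBot ℕ∞) ≤ x ↔ 1 ≤ d := by
  subst h; exact WithBot.coe_le_coe

theorem min_one_le {f : G →ₗ[S] E0} (hf : Function.Injective f)
    (h0 : min (1 : WithBot ℕ∞) (Module.supportDim S E0) ≤ ((LocCoh.depth S E0 : ℕ∞) : WithBot ℕ∞)) :
    min (1 : WithBot ℕ∞) (Module.supportDim S G) ≤ ((LocCoh.depth S G : ℕ∞) : WithBot ℕ∞) := by
  by_cases hd : (1 : WithBot ℕ∞) ≤ Module.supportDim S G
  · rw [min_eq_left hd]
    rw [min_eq_left (hd.trans (Module.supportDim_le_of_injective f hf))] at h0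
    exact WithBot.coe_le_coe.mpr
      (DomMod.HomDepth.one_le_idealDepth_of_injective f hf (WithBot.coe_le_coe.mp h0))
  · refine (min_le_right _ _).trans ?_
    rcases hd' : Module.supportDim S G with _ | d
    · exact bot_le
    · have : d = 0 := by
        by_contra hne
        exact hd ((one_le_withBot_iff hd').mpr (Order.one_le_iff_pos.mpr (pos_iff_ne_zero.mpr hne)))
      subst this
      exact WithBot.coe_le_coe.mpr zero_le

theorem min_two_le {f : G →ₗ[S] E0} {g : E0 →ₗ[S] E1} (hf : Function.Injective f)
    (hfg : Function.Exact f g) (hdim : Module.supportDim S G ≤ Module.supportDim S E1)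
    (h0 : min (2 : WithBot ℕ∞) (Module.supportDim S E0) ≤ ((LocCoh.depth S E0 : ℕ∞) : WithBot ℕ∞))
    (h1 : min (1 : WithBot ℕ∞) (Module.supportDim S E1) ≤ ((LocCoh.depth S E1 : ℕ∞) : WithBot ℕ∞)) :
    min (2 : WithBot ℕ∞) (Module.supportDim S G) ≤ ((LocCoh.depth S G : ℕ∞) : WithBot ℕ∞) := by
  have one_two : (1 : WithBot ℕ∞) ≤ 2 := by exact_mod_cast (one_le_two : (1 : ℕ) ≤ 2)
  by_cases hd : (2 : WithBot ℕ∞) ≤ Module.supportDim S G
  · rw [min_eq_left hd]
    rw [min_eq_left (hd.trans (Module.supportDim_le_of_injective f hf))] at h0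
    rw [min_eq_left ((one_two.trans hd).trans hdim)] at h1
    refine WithBot.coe_le_coe.mpr ?_
    have hR : 1 ≤ LocCoh.idealDepth (IsLocalRing.maximalIdeal S) (LinearMap.range g) :=
      DomMod.HomDepth.one_le_idealDepth_of_injective (LinearMap.range g).subtype
        (Submodule.injective_subtype _) (WithBot.coe_le_coe.mp h1)
    refine le_trans (le_min (WithBot.coe_le_coe.mp h0) ?_) (min_le_idealDepth_X₁ hf
      g.surjective_rangeRestrict (f := f)
      (LinearMap.exact_iff.mpr (by rw [LinearMap.ker_rangeRestrict]; exact LinearMap.exact_iff.mp hfg)))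
    calc (2 : ℕ∞) = 1 + 1 := rfl
      _ ≤ _ := add_le_add hR le_rfl
  · have h := min_one_le hf (le_trans (min_le_min one_two le_rfl) h0)
    refine le_trans ?_ h
    refine le_min ?_ (min_le_right _ _)
    refine (min_le_right _ _).trans ?_
    rcases hd' : Module.supportDim S G with _ | d
    · exact bot_le
    · rw [hd'] at hd
      have : d < 2 := by
        by_contra hne
        exact hd (WithBot.coe_le_coe.mpr (not_lt.mp hne))
      exact WithBot.coe_le_coe.mpr (Order.le_of_lt_add_one (by simpa [one_add_one_eq_two] using this))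

end Local

variable {A : Type u} [CommRing A]

theorem supportDim_localized_le {M N : Type u} [AddCommGroup M] [Module A M] [Module.Finite A M]
    [AddCommGroup N] [Module A N] [Module.Finite A N] (h : Module.support A M ⊆ Module.support A N)
    (p : Ideal A) [p.IsPrime] :
    Module.supportDim (Localization.AtPrime p) (LocalizedModule p.primeCompl M) ≤
      Module.supportDim (Localization.AtPrime p) (LocalizedModule p.primeCompl N) := by
  rw [Dim.supportDim_atPrime, Dim.supportDim_atPrime]
  exact Order.krullDim_le_of_strictMono (fun P => ⟨P.1, h P.2.1, P.2.2⟩) fun _ _ h => h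

end Groth.Agent.QGorLib.KerSk
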