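import Groth.Agent.DomMod.HomDepth
import Mathlib.LinearAlgebra.Dual.Lemmas

/-!
Reflexive modules over arbitrary Noetherian rings as second syzygies.
-/

set_option autoImplicit false
set_option linter.style.haveILetI false
set_option maxHeartbeats 400000

universe u

namespace Groth.Agent.QGorLib.Refl

variable {A : Type u} [CommRing A] [IsNoetherianRing A]

theorem finite_dual (G : Type u) [AddCommGroup G] [Module A G] [Module.Finite A G] :
    Module.Finite A (Module.Dual A G) := by
  obtain ⟨n, π, hπ⟩ := Module.Finite.exists_fin' A G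
  haveI : IsNoetherian A (Module.Dual A (Fin n → A)) := isNoetherian_of_isNoetherianRing_of_finite A _
  exact Module.Finite.of_injective π.dualMap (LinearMap.dualMap_injective_of_surjective hπ)

/-- A finite reflexive module is the kernel of a map of finite free modules. -/
theorem exists_exact (G : Type u) [AddCommGroup G] [Module A G] [Module.Finite A G]
    [Module.IsReflexive A G] :
    ∃ (n m : ℕ) (f : G →ₗ[A] (Fin n → A)) (g : (Fin n → A) →ₗ[A] (Fin m → A)),
      Function.Injective f ∧ Function.Exact f g := by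
  haveI := finite_dual (A := A) G
  obtain ⟨n, m, f, g, hf, hfg⟩ := DomMod.HomDepth.exists_hom_exact (R := A) (Module.Dual A G) A
  let e : G ≃ₗ[A] (Module.Dual A G →ₗ[A] A) :=
    LinearEquiv.ofBijective (Module.Dual.eval A G) (Module.bijective_dual_eval A G)
  refine ⟨n, m, f ∘ₗ e.toLinearMap, g, hf.comp e.injective, fun v => (hfg v).trans ?_⟩
  exact ⟨fun ⟨y, hy⟩ => ⟨e.symm y, by simp [hy]⟩, fun ⟨x, hx⟩ => ⟨e x, hx⟩⟩

theorem le_idealDepth (I : Ideal A) (G : Type u) [AddCommGroup G] [Module A G] [Module.Finite A G]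
    [Module.IsReflexive A G] {k : ℕ} (hk : k ≤ 2) (h : (k : ℕ∞) ≤ LocCoh.idealDepth I A) :
    (k : ℕ∞) ≤ LocCoh.idealDepth I G := by
  obtain ⟨n, m, f, g, hf, hfg⟩ := exists_exact (A := A) G
  exact DomMod.HomDepth.le_idealDepth_kernel f g hf hfg hk (h.trans (DomMod.HomDepth.le_idealDepth_pi A n))
    (h.trans (DomMod.HomDepth.le_idealDepth_pi A m))

theorem hasSk (G : Type u) [AddCommGroup G] [Module A G] [Module.Finite A G]
    [Module.IsReflexive A G] {k : ℕ} (hk : k ≤ 2) (h : LocCoh.HasSk k A A) : LocCoh.HasSk k A G := by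
  obtain ⟨n, m, f, g, hf, hfg⟩ := exists_exact (A := A) G
  exact DomMod.HomDepth.hasSk_kernel f g hf hfg hk h

end Groth.Agent.QGorLib.Refl
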