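import Groth.Agent.QGorLib.Refl
import Mathlib.Algebra.Module.FinitePresentation

/-!
Modules which are reflexive off `V(I)`.
-/

set_option autoImplicit false
set_option linter.style.haveILetI false
set_option maxHeartbeats 400000

universe u

namespace Groth.Agent.QGorLib.ReflOff

variable {A : Type u} [CommRing A] (p : Ideal A) [p.IsPrime] (G : Type u) [AddCommGroup G] [Module A G]

/-- Localisation of the dual module. -/
noncomputable abbrev locDual : Module.Dual A G →ₗ[A]
    Module.Dual (Localization.AtPrime p) (LocalizedModule p.primeCompl G) :=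
  IsLocalizedModule.mapExtendScalars p.primeCompl (LocalizedModule.mkLinearMap p.primeCompl G)
    (Algebra.linearMap A (Localization.AtPrime p)) (Localization.AtPrime p)

theorem locDual_apply (φ : Module.Dual A G) (x : G) :
    locDual p G φ (LocalizedModule.mkLinearMap p.primeCompl G x) =
      algebraMap A (Localization.AtPrime p) (φ x) :=
  IsLocalizedModule.map_apply p.primeCompl _ _ φ x

variable [IsNoetherianRing A] [Module.Finite A G]
  [Module.IsReflexive (Localization.AtPrime p) (LocalizedModule p.primeCompl G)]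

theorem exists_smul_eq_zero_of_eval_eq_zero (x : G) (hx : Module.Dual.eval A G x = 0) :
    ∃ t ∉ p, t • x = 0 := by
  haveI : Module.FinitePresentation A G := Module.finitePresentation_of_finite A G
  have h : LocalizedModule.mkLinearMap p.primeCompl G x = 0 := by
    refine (Module.bijective_dual_eval (Localization.AtPrime p) _).1 ?_
    rw [map_zero]
    refine LinearMap.ext fun φ' => ?_
    obtain ⟨⟨φ, t⟩, ht⟩ := IsLocalizedModule.surj p.primeCompl (locDual p G) φ'
    have h1 := LinearMap.congr_fun ht (LocalizedModule.mkLinearMap p.primeCompl G x)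
    rw [locDual_apply, show φ x = 0 from LinearMap.congr_fun hx φ, map_zero, LinearMap.smul_apply,
      Submonoid.smul_def, Algebra.smul_def] at h1
    exact (IsLocalization.map_units (Localization.AtPrime p) t).mul_right_eq_zero.mp h1
  obtain ⟨t, ht⟩ := (IsLocalizedModule.eq_zero_iff p.primeCompl _).mp h
  exact ⟨t, t.2, ht⟩

theorem exists_smul_eq_eval (y : Module.Dual A (Module.Dual A G)) :
    ∃ t ∉ p, ∃ x : G, t • y = Module.Dual.eval A G x := by
  classical
  haveI : Module.FinitePresentation A G := Module.finitePresentation_of_finite A G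
  haveI := Refl.finite_dual (A := A) G
  let Y : Module.Dual (Localization.AtPrime p) (Module.Dual (Localization.AtPrime p)
      (LocalizedModule p.primeCompl G)) :=
    IsLocalizedModule.mapExtendScalars p.primeCompl (locDual p G)
      (Algebra.linearMap A (Localization.AtPrime p)) (Localization.AtPrime p) y
  obtain ⟨w, hw⟩ := (Module.bijective_dual_eval (Localization.AtPrime p) _).2 Y
  obtain ⟨⟨x, s⟩, hs⟩ := IsLocalizedModule.surj p.primeCompl (LocalizedModule.mkLinearMap p.primeCompl G) w
  have hall : ∀ φ : Module.Dual A G, ∃ t : p.primeCompl,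
      (t : A) * ((s : A) * y φ) = (t : A) * φ x := fun φ => by
    have h1 : locDual p G φ w = algebraMap A (Localization.AtPrime p) (y φ) :=
      (LinearMap.congr_fun hw (locDual p G φ)).trans
        (IsLocalizedModule.map_apply p.primeCompl (locDual p G) _ y φ)
    have h2 : algebraMap A (Localization.AtPrime p) ((s : A) * y φ) =
        algebraMap A (Localization.AtPrime p) (φ x) := by
      rw [map_mul, ← h1, ← Algebra.smul_def, ← Submonoid.smul_def, ← LinearMap.map_smul_of_tower, hs,
        locDual_apply]
    exact (IsLocalization.eq_iff_exists p.primeCompl _).mp h2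
  obtain ⟨F, hF⟩ := (Module.Finite.fg_top : (⊤ : Submodule A (Module.Dual A G)).FG)
  choose t ht using hall
  let T : p.primeCompl := ∏ φ ∈ F, t φ
  refine ⟨(T : A) * (s : A), (T * s).2, (T : A) • x, ?_⟩
  rw [map_smul]
  refine LinearMap.ext_on hF fun φ hφ => ?_
  obtain ⟨c, hc⟩ : (t φ : A) ∣ (T : A) := by
    simp only [T, Submonoid.coe_finsetProd]
    exact Finset.dvd_prod_of_mem (fun φ => (t φ : A)) hφ
  simp only [LinearMap.smul_apply, smul_eq_mul, Module.Dual.eval_apply]
  rw [hc]
  linear_combination c * ht φ

omit p in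
/-- A module reflexive off `V(I)` with depth at least two along `I` is reflexive. -/
theorem isReflexive_of_depth (I : Ideal A) (hA : 1 ≤ LocCoh.idealDepth I A)
    (hU : ∀ p : PrimeSpectrum A, ¬ I ≤ p.asIdeal →
      Module.IsReflexive (Localization.AtPrime p.asIdeal) (LocalizedModule p.asIdeal.primeCompl G))
    (hG : 2 ≤ LocCoh.idealDepth I G) : Module.IsReflexive A G := by
  haveI := Refl.finite_dual (A := A) G
  haveI := Refl.finite_dual (A := A) (Module.Dual A G)
  set ev := Module.Dual.eval A G
  haveI : Module.Finite A (LinearMap.ker ev) := Module.Finite.iff_fg.mpr (IsNoetherian.noetherian _)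
  have hinj : Function.Injective ev := by
    rw [← LinearMap.ker_eq_bot]
    by_contra hne
    haveI : Nontrivial (LinearMap.ker ev) := Submodule.nontrivial_iff_ne_bot.mpr hne
    obtain ⟨q, hq⟩ := associatedPrimes.nonempty A (LinearMap.ker ev)
    have := Depth.isPrime_of_mem_associatedPrimes hq
    have hnot : ¬ I ≤ q := Depth.one_le_idealDepth_iff.mp
      (DomMod.HomDepth.one_le_idealDepth_of_injective _ (Submodule.injective_subtype _)
        (le_trans one_le_two hG)) q hq
    haveI := hU ⟨q, this⟩ hnot
    obtain ⟨-, z, hz⟩ := isAssociatedPrime_iff.mp hq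
    obtain ⟨t, ht, htz⟩ := exists_smul_eq_zero_of_eval_eq_zero q G (z : G) z.2
    refine ht ?_
    rw [hz, Submodule.mem_colon_singleton, Submodule.mem_bot]
    exact Subtype.ext htz
  refine ⟨⟨hinj, ?_⟩⟩
  rw [← LinearMap.range_eq_top]
  by_contra hne
  haveI : Nontrivial (Module.Dual A (Module.Dual A G) ⧸ LinearMap.range ev) :=
    Submodule.Quotient.nontrivial_iff.mpr hne
  have hC : 1 ≤ LocCoh.idealDepth I (Module.Dual A (Module.Dual A G) ⧸ LinearMap.range ev) := by
    refine le_trans (le_min ?_ ?_) (Depth.min_le_idealDepth_X₃ hinj (Submodule.mkQ_surjective _)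
      (LinearMap.exact_map_mkQ_range ev))
    · exact DomMod.HomDepth.le_idealDepth_hom (Module.Dual A G) A one_le_two hA
    · calc (1 : ℕ∞) = 2 - 1 := rfl
        _ ≤ _ := tsub_le_tsub_right hG 1
  obtain ⟨q, hq⟩ := associatedPrimes.nonempty A (Module.Dual A (Module.Dual A G) ⧸ LinearMap.range ev)
  have := Depth.isPrime_of_mem_associatedPrimes hq
  haveI := hU ⟨q, this⟩ (Depth.one_le_idealDepth_iff.mp hC q hq)
  obtain ⟨-, z, hz⟩ := isAssociatedPrime_iff.mp hq
  obtain ⟨y, rfl⟩ := Submodule.mkQ_surjective _ z
  obtain ⟨t, ht, x, hx⟩ := exists_smul_eq_eval q G y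
  refine ht ?_
  rw [hz, Submodule.mem_colon_singleton, Submodule.mem_bot, ← map_smul, hx, Submodule.mkQ_apply,
    Submodule.Quotient.mk_eq_zero]
  exact ⟨x, rfl⟩

end Groth.Agent.QGorLib.ReflOff
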